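import Groth.Agent.K0Res.Main
import Mathlib.GroupTheory.MonoidLocalization.GrothendieckGroup
import Mathlib.CategoryTheory.Abelian.SerreClass.Localization

/-!
Equality of classes in `K₀` of an abelian category, and two-periodic complexes.
-/

set_option backward.isDefEq.respectTransparency false
set_option backward.isDefEq.respectTransparency.types false
set_option linter.style.haveILetI false
set_option autoImplicit false

universe v u

open CategoryTheory CategoryTheory.Limits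
open scoped ZeroObject

noncomputable section

namespace Groth.Agent.K0Serre

variable {A : Type u} [Category.{v} A] [Abelian A]

lemma cl_add {S : ShortComplex A} (hS : S.ShortExact) : KZero.cl S.X₂ = KZero.cl S.X₁ + KZero.cl S.X₃ := by
  simp only [KZero.cl, ← QuotientAddGroup.mk_add, QuotientAddGroup.eq_iff_sub_mem]
  rw [← sub_sub]
  exact AddSubgroup.subset_closure ⟨S, hS, rfl⟩

theorem shortExact_biprod {S₁ S₂ : ShortComplex A} (h₁ : S₁.ShortExact) (h₂ : S₂.ShortExact) :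
    (ShortComplex.mk (biprod.map S₁.f S₂.f) (biprod.map S₁.g S₂.g) (by ext <;> simp)).ShortExact := by
  haveI := h₁.mono_f
  haveI := h₂.mono_f
  haveI := h₁.epi_g
  haveI := h₂.epi_g
  refine @ShortComplex.ShortExact.mk _ _ _ _ ?_ ?_ ?_
  · rw [ShortComplex.exact_iff_exact_up_to_refinements]
    intro W x hx
    change x ≫ biprod.map S₁.g S₂.g = 0 at hx
    have hx₁ : (x ≫ biprod.fst) ≫ S₁.g = 0 := by simpa using congrArg (· ≫ biprod.fst) hx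
    have hx₂ : (x ≫ biprod.snd) ≫ S₂.g = 0 := by simpa using congrArg (· ≫ biprod.snd) hx
    refine ⟨W, 𝟙 W, inferInstance, biprod.lift (h₁.exact.lift _ hx₁) (h₂.exact.lift _ hx₂), ?_⟩
    change 𝟙 W ≫ x = biprod.lift _ _ ≫ biprod.map S₁.f S₂.f
    rw [Category.id_comp]
    ext <;> simp
  · change Mono (biprod.map S₁.f S₂.f)
    infer_instance
  · change Epi (biprod.map S₁.g S₂.g)
    infer_instance

lemma split_shortExact (X Y : A) :
    (ShortComplex.mk (biprod.inl : X ⟶ X ⊞ Y) biprod.snd biprod.inl_snd).ShortExact :=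
  (ShortComplex.Splitting.ofHasBinaryBiproduct X Y).shortExact

lemma cl_biprod (X Y : A) : KZero.cl (X ⊞ Y) = KZero.cl X + KZero.cl Y :=
  cl_add (split_shortExact X Y)

lemma cl_zero : KZero.cl (0 : A) = 0 := by
  have h : (ShortComplex.mk (0 : (0 : A) ⟶ 0) (0 : (0 : A) ⟶ 0) zero_comp).ShortExact :=
    @ShortComplex.ShortExact.mk _ _ _ _ (ShortComplex.exact_of_isZero_X₂ _ (isZero_zero A))
      ((isZero_zero A).mono _) ((isZero_zero A).epi _)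
  have := cl_add h
  exact left_eq_add.mp this

lemma iso_shortExact {X Y : A} (e : X ≅ Y) :
    (ShortComplex.mk e.hom (0 : Y ⟶ (0 : A)) comp_zero).ShortExact := by
  refine @ShortComplex.ShortExact.mk _ _ _ _ ?_ (inferInstanceAs (Mono e.hom)) ((isZero_zero A).epi _)
  exact (ShortComplex.exact_iff_epi (ShortComplex.mk e.hom (0 : Y ⟶ (0 : A)) comp_zero) rfl).2
    (inferInstanceAs (Epi e.hom))

lemma cl_iso {X Y : A} (e : X ≅ Y) : KZero.cl X = KZero.cl Y := by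
  have h := cl_add (iso_shortExact e)
  rw [cl_zero, add_zero] at h
  exact h.symm

/-- Two objects differing by the middle terms of two extensions with the same ends. -/
def Rel (X Y : A) : Prop :=
  ∃ S T : ShortComplex A, S.ShortExact ∧ T.ShortExact ∧ Nonempty (S.X₁ ≅ T.X₁) ∧ Nonempty (S.X₃ ≅ T.X₃) ∧
    Nonempty (X ⊞ S.X₂ ≅ Y ⊞ T.X₂)

lemma rel_of_iso {X Y : A} (e : X ≅ Y) : Rel X Y :=
  ⟨_, _, iso_shortExact (Iso.refl (0 : A)), iso_shortExact (Iso.refl (0 : A)), ⟨Iso.refl _⟩, ⟨Iso.refl _⟩,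
    ⟨biprod.mapIso e (Iso.refl _)⟩⟩

lemma Rel.symm {X Y : A} : Rel X Y → Rel Y X
  | ⟨S, T, hS, hT, ⟨a⟩, ⟨c⟩, ⟨e⟩⟩ => ⟨T, S, hT, hS, ⟨a.symm⟩, ⟨c.symm⟩, ⟨e.symm⟩⟩

/-- Regrouping. -/
lemma swap4 (X Y Z W : A) : Nonempty ((X ⊞ Y) ⊞ (Z ⊞ W) ≅ (X ⊞ Z) ⊞ (Y ⊞ W)) :=
  ⟨{ hom := biprod.lift (biprod.map biprod.fst biprod.fst) (biprod.map biprod.snd biprod.snd)
     inv := biprod.lift (biprod.map biprod.fst biprod.fst) (biprod.map biprod.snd biprod.snd)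
     hom_inv_id := by ext <;> simp
     inv_hom_id := by ext <;> simp }⟩

lemma Rel.add {X Y X' Y' : A} : Rel X Y → Rel X' Y' → Rel (X ⊞ X') (Y ⊞ Y')
  | ⟨S, T, hS, hT, ⟨a⟩, ⟨c⟩, ⟨e⟩⟩, ⟨S', T', hS', hT', ⟨a'⟩, ⟨c'⟩, ⟨e'⟩⟩ => by
    obtain ⟨g₁⟩ := swap4 X X' S.X₂ S'.X₂
    obtain ⟨g₂⟩ := swap4 Y T.X₂ Y' T'.X₂
    exact ⟨_, _, shortExact_biprod hS hS', shortExact_biprod hT hT', ⟨biprod.mapIso a a'⟩,
      ⟨biprod.mapIso c c'⟩, ⟨g₁ ≪≫ biprod.mapIso e e' ≪≫ g₂⟩⟩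

lemma Rel.trans {X Y Z : A} : Rel X Y → Rel Y Z → Rel X Z
  | ⟨S, T, hS, hT, ⟨a⟩, ⟨c⟩, ⟨e⟩⟩, ⟨S', T', hS', hT', ⟨a'⟩, ⟨c'⟩, ⟨e'⟩⟩ => by
    refine ⟨_, _, shortExact_biprod hS hS', shortExact_biprod hT hT', ⟨biprod.mapIso a a'⟩,
      ⟨biprod.mapIso c c'⟩, ⟨?_⟩⟩
    exact (biprod.associator X S.X₂ S'.X₂).symm ≪≫ biprod.mapIso e (Iso.refl _) ≪≫
      biprod.associator Y T.X₂ S'.X₂ ≪≫ biprod.mapIso (Iso.refl Y) (biprod.braiding T.X₂ S'.X₂) ≪≫
      (biprod.associator Y S'.X₂ T.X₂).symm ≪≫ biprod.mapIso e' (Iso.refl _) ≪≫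
      biprod.associator Z T'.X₂ T.X₂ ≪≫ biprod.mapIso (Iso.refl Z) (biprod.braiding T'.X₂ T.X₂)

/-- A short exact sequence relates the middle term to the sum of the ends. -/
lemma rel_of_shortExact {S : ShortComplex A} (hS : S.ShortExact) : Rel S.X₂ (S.X₁ ⊞ S.X₃) :=
  ⟨_, S, split_shortExact S.X₁ S.X₃, hS, ⟨Iso.refl _⟩, ⟨Iso.refl _⟩, ⟨biprod.braiding _ _⟩⟩

/-- Cancellation. -/
lemma Rel.cancel {X Y Z : A} : Rel (Z ⊞ X) (Z ⊞ Y) → Rel X Y
  | ⟨S, T, hS, hT, ⟨a⟩, ⟨c⟩, ⟨e⟩⟩ => by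
    refine ⟨_, _, shortExact_biprod (iso_shortExact (Iso.refl Z)) hS,
      shortExact_biprod (iso_shortExact (Iso.refl Z)) hT, ⟨biprod.mapIso (Iso.refl Z) a⟩,
      ⟨biprod.mapIso (Iso.refl _) c⟩, ⟨?_⟩⟩
    exact (biprod.associator X Z S.X₂).symm ≪≫ biprod.mapIso (biprod.braiding X Z) (Iso.refl _) ≪≫ e ≪≫
      biprod.mapIso (biprod.braiding Z Y) (Iso.refl _) ≪≫ biprod.associator Y Z T.X₂

/-- The congruence. -/
def relSetoid (A : Type u) [Category.{v} A] [Abelian A] : Setoid A :=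
  ⟨Rel, fun X => rel_of_iso (Iso.refl X), Rel.symm, Rel.trans⟩

/-- Classes of objects. -/
def M₀ (A : Type u) [Category.{v} A] [Abelian A] : Type u := Quotient (relSetoid A)

instance : Add (M₀ A) := ⟨Quotient.map₂ (fun X Y => X ⊞ Y) fun _ _ h _ _ h' => Rel.add h h'⟩

instance : Zero (M₀ A) := ⟨Quotient.mk _ (0 : A)⟩

lemma biprod_zero_iso (X : A) : Nonempty ((0 : A) ⊞ X ≅ X) :=
  ⟨{ hom := biprod.snd, inv := biprod.inr
     hom_inv_id := by
       apply biprod.hom_ext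
       · exact (isZero_zero A).eq_of_tgt _ _
       · simp }⟩

instance : AddCommMonoid (M₀ A) where
  add_assoc a b c := by
    induction a using Quotient.inductionOn
    induction b using Quotient.inductionOn
    induction c using Quotient.inductionOn
    exact Quotient.sound (rel_of_iso (biprod.associator _ _ _))
  zero_add a := by
    induction a using Quotient.inductionOn
    exact Quotient.sound (rel_of_iso (biprod_zero_iso _).some)
  add_zero a := by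
    induction a using Quotient.inductionOn
    exact Quotient.sound (rel_of_iso (biprod.braiding _ _ ≪≫ (biprod_zero_iso _).some))
  add_comm a b := by
    induction a using Quotient.inductionOn
    induction b using Quotient.inductionOn
    exact Quotient.sound (rel_of_iso (biprod.braiding _ _))
  nsmul := nsmulRec

/-- The class of an object. -/
def mk₀ (X : A) : M₀ A := Quotient.mk (relSetoid A) X

lemma mk₀_biprod (X Y : A) : mk₀ (X ⊞ Y) = mk₀ X + mk₀ Y := rfl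

/-- Equal classes are related. -/
theorem rel_of_cl_eq {X Y : A} (h : KZero.cl X = KZero.cl Y) : Rel X Y := by
  let of' : M₀ A → Algebra.GrothendieckAddGroup (M₀ A) := Algebra.GrothendieckAddGroup.of
  let f : FreeAbelianGroup A →+ Algebra.GrothendieckAddGroup (M₀ A) :=
    FreeAbelianGroup.lift fun Z => of' (mk₀ Z)
  have hf : KZero.relAb A ≤ f.ker := by
    rw [KZero.relAb, AddSubgroup.closure_le]
    rintro _ ⟨S, hS, rfl⟩
    have h1 : mk₀ S.X₂ = mk₀ S.X₁ + mk₀ S.X₃ :=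
      (Quotient.sound (s := relSetoid A) (rel_of_shortExact hS)).trans (mk₀_biprod _ _)
    simp only [SetLike.mem_coe, AddMonoidHom.mem_ker, map_sub, f, FreeAbelianGroup.lift_apply_of, of', h1,
      map_add]
    abel
  have h2 := congrArg (QuotientAddGroup.lift _ f hf) h
  simp only [KZero.cl, QuotientAddGroup.lift_mk, f, FreeAbelianGroup.lift_apply_of, of'] at h2
  obtain ⟨⟨c, hcm⟩, hc⟩ := (AddSubmonoid.LocalizationMap.eq_iff_exists (AddLocalization.addMonoidOf ⊤)).1 h2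
  obtain ⟨Z, hZ⟩ := Quotient.exists_rep c
  rw [← hZ] at hc
  exact Rel.cancel (Quotient.exact (hc : mk₀ (Z ⊞ X) = mk₀ (Z ⊞ Y)))

/-- The endomorphism of `a ⊞ (N ⊞ c)` given by `a ⟶ N` and `N ⟶ c`. -/
def per {N a c : A} (i : a ⟶ N) (p : N ⟶ c) : a ⊞ (N ⊞ c) ⟶ a ⊞ (N ⊞ c) :=
  biprod.fst ≫ i ≫ biprod.inl ≫ biprod.inr + biprod.snd ≫ biprod.fst ≫ p ≫ biprod.inr ≫ biprod.inr

lemma per_comp {N a c : A} {i : a ⟶ N} {p : N ⟶ c} {i' : a ⟶ N} {p' : N ⟶ c} (h : i ≫ p' = 0) :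
    per i p ≫ per i' p' = 0 := by
  simp [per, reassoc_of% h]

/-- A two-periodic complex with prescribed homology. -/
theorem exists_homology {X N a c : A} {S : ShortComplex A} (hS : S.ShortExact) (ea : a ≅ S.X₁) (ec : c ≅ S.X₃)
    (e : N ≅ X ⊞ S.X₂) {i₁ : a ⟶ N} {p₁ : N ⟶ c} (h₁ : i₁ = ea.hom ≫ S.f ≫ biprod.inr ≫ e.inv)
    (h₁' : p₁ = e.hom ≫ biprod.snd ≫ S.g ≫ ec.inv) (i₂ : a ⟶ N) [Mono i₂] (p₂ : N ⟶ c) [Epi p₂]
    (w : per i₁ p₂ ≫ per i₂ p₁ = 0) :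
    Nonempty ((ShortComplex.mk _ _ w).homology ≅ X) := by
  haveI := hS.mono_f
  haveI := hS.epi_g
  subst h₁ h₁'
  set φ := per (ea.hom ≫ S.f ≫ biprod.inr ≫ e.inv) p₂ with hφ
  set ψ := per i₂ (e.hom ≫ biprod.snd ≫ S.g ≫ ec.inv) with hψ
  simp only [per, Category.assoc] at hφ hψ
  let ι : (X ⊞ a) ⊞ c ⟶ a ⊞ (N ⊞ c) :=
    biprod.fst ≫ biprod.map (𝟙 X) (ea.hom ≫ S.f) ≫ e.inv ≫ biprod.inl ≫ biprod.inr +
      biprod.snd ≫ biprod.inr ≫ biprod.inr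
  have hι : ι ≫ ψ = 0 := by
    simp [ι, hψ]
  haveI : Mono (biprod.map (𝟙 X) (ea.hom ≫ S.f)) := inferInstance
  haveI : Mono ι := by
    refine Preadditive.mono_of_cancel_zero _ fun {Z} k hk => ?_
    have h1 := congrArg (· ≫ biprod.snd ≫ biprod.fst ≫ e.hom) hk
    have h2 := congrArg (· ≫ biprod.snd ≫ biprod.snd) hk
    simp [ι] at h1 h2
    have h1' : (k ≫ biprod.fst) ≫ biprod.map (𝟙 X) (ea.hom ≫ S.f) = 0 := by simpa using h1
    apply biprod.hom_ext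
    · rw [zero_comp]
      exact zero_of_comp_mono _ h1'
    · rw [zero_comp]
      exact h2
  have hker : ∀ {Z : A} (k : Z ⟶ a ⊞ (N ⊞ c)), k ≫ ψ = 0 → ∃ l, l ≫ ι = k := by
    intro Z k hk
    have h1 := congrArg (· ≫ biprod.snd ≫ biprod.fst) hk
    have h2 := congrArg (· ≫ biprod.snd ≫ biprod.snd ≫ ec.hom) hk
    simp [hψ] at h1 h2
    have ha : k ≫ biprod.fst = 0 := zero_of_comp_mono i₂ (by simpa using h1)
    have hb : (k ≫ biprod.snd ≫ biprod.fst ≫ e.hom ≫ biprod.snd) ≫ S.g = 0 := by simpa using h2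
    refine ⟨biprod.lift (biprod.lift (k ≫ biprod.snd ≫ biprod.fst ≫ e.hom ≫ biprod.fst)
      (hS.exact.lift _ hb ≫ ea.inv)) (k ≫ biprod.snd ≫ biprod.snd), ?_⟩
    have hX : biprod.lift (k ≫ biprod.snd ≫ biprod.fst ≫ e.hom ≫ biprod.fst)
        (hS.exact.lift _ hb ≫ ea.inv) ≫ biprod.map (𝟙 X) (ea.hom ≫ S.f) =
        k ≫ biprod.snd ≫ biprod.fst ≫ e.hom := by
      ext <;> simp
    apply biprod.hom_ext
    · simp [ι, ha]
    · apply biprod.hom_ext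
      · simp [ι, reassoc_of% hX]
      · simp [ι]
  let hi : IsLimit (KernelFork.ofι ι hι) :=
    KernelFork.IsLimit.ofι' ι hι fun k hk => ⟨(hker k hk).choose, (hker k hk).choose_spec⟩
  let f' := hi.lift (KernelFork.ofι φ w)
  have hf' : f' = biprod.fst ≫ biprod.inr ≫ biprod.inl + biprod.snd ≫ biprod.fst ≫ p₂ ≫ biprod.inr := by
    rw [← cancel_mono ι]
    refine (Fork.IsLimit.lift_ι hi).trans ?_
    show φ = _
    apply biprod.hom_ext' <;> simp [ι, hφ]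
  let π : (X ⊞ a) ⊞ c ⟶ X := biprod.fst ≫ biprod.fst
  have hπ : f' ≫ π = 0 := by rw [hf']; simp [π]
  let hc : IsColimit (CokernelCofork.ofπ π hπ) := CokernelCofork.IsColimit.ofπ' π hπ fun {Z} h hh => by
    refine ⟨biprod.inl ≫ biprod.inl ≫ h, ?_⟩
    rw [hf'] at hh
    have ha : biprod.inr ≫ (biprod.inl : X ⊞ a ⟶ _) ≫ h = 0 := by
      have := congrArg ((biprod.inl : a ⟶ a ⊞ (N ⊞ c)) ≫ ·) hh
      simpa using this
    have hc' : (biprod.inr : c ⟶ (X ⊞ a) ⊞ c) ≫ h = 0 := by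
      refine zero_of_epi_comp p₂ ?_
      have := congrArg ((biprod.inl : N ⟶ N ⊞ c) ≫ (biprod.inr : N ⊞ c ⟶ a ⊞ (N ⊞ c)) ≫ ·) hh
      simpa using this
    apply biprod.hom_ext'
    · apply biprod.hom_ext'
      · simp [π]
      · simp [π, ha]
    · simp [π, hc']
  exact ⟨(ShortComplex.LeftHomologyData.mk ((X ⊞ a) ⊞ c) X ι π hι hi hπ hc :
    (ShortComplex.mk φ ψ w).LeftHomologyData).homologyIso⟩

/-- Equal classes are homologies of a two-periodic complex. -/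
theorem exists_periodic {X Y : A} (h : KZero.cl X = KZero.cl Y) :
    ∃ (M : A) (φ ψ : M ⟶ M) (h₁ : φ ≫ ψ = 0) (h₂ : ψ ≫ φ = 0),
      Nonempty ((ShortComplex.mk φ ψ h₁).homology ≅ X) ∧ Nonempty ((ShortComplex.mk ψ φ h₂).homology ≅ Y) := by
  obtain ⟨S, T, hS, hT, ⟨ea⟩, ⟨ec⟩, ⟨e⟩⟩ := rel_of_cl_eq h
  haveI := hS.mono_f
  haveI := hS.epi_g
  haveI := hT.mono_f
  haveI := hT.epi_g
  let i₂ : S.X₁ ⟶ X ⊞ S.X₂ := ea.hom ≫ T.f ≫ biprod.inr ≫ e.inv
  let p₂ : X ⊞ S.X₂ ⟶ S.X₃ := e.hom ≫ biprod.snd ≫ T.g ≫ ec.inv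
  let i₁ : S.X₁ ⟶ X ⊞ S.X₂ := S.f ≫ biprod.inr
  let p₁ : X ⊞ S.X₂ ⟶ S.X₃ := biprod.snd ≫ S.g
  haveI : Mono i₂ := by dsimp [i₂]; infer_instance
  haveI : Epi p₂ := by dsimp [p₂]; infer_instance
  haveI : Mono i₁ := by dsimp [i₁]; infer_instance
  haveI : Epi p₁ := by dsimp [p₁]; infer_instance
  have w₁ : i₁ ≫ p₁ = 0 := by simp [i₁, p₁]
  have w₂ : i₂ ≫ p₂ = 0 := by simp [i₂, p₂]
  obtain ⟨eX⟩ := exists_homology (X := X) hS (Iso.refl _) (Iso.refl _) (Iso.refl _) (i₁ := i₁) (p₁ := p₁)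
    (by simp [i₁]) (by simp [p₁]) i₂ p₂ (per_comp w₁)
  obtain ⟨eY⟩ := exists_homology (X := Y) hT ea ec e (i₁ := i₂) (p₁ := p₂) rfl rfl i₁ p₁ (per_comp w₂)
  exact ⟨_, per i₁ p₂, per i₂ p₁, per_comp w₁, per_comp w₂, ⟨eX⟩, ⟨eY⟩⟩

end Groth.Agent.K0Serre
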