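import Groth.Agent.K0Serre.Equal
import Mathlib.CategoryTheory.Abelian.Exact

/-!
The localisation sequence in `K₀` for a Serre subcategory.
-/

set_option backward.isDefEq.respectTransparency false
set_option backward.isDefEq.respectTransparency.types false
set_option linter.style.haveILetI false
set_option autoImplicit false

universe v v' u u'

open CategoryTheory CategoryTheory.Limits
open scoped ZeroObject

noncomputable section

namespace Groth.Agent.K0Serre

variable {A : Type u} [Category.{v} A] [Abelian A] (P : ObjectProperty A) [P.IsSerreClass]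

lemma clSub_iso {X Y : A} (hX : P X) (e : X ≅ Y) : KZero.clSub P X = KZero.clSub P Y := by
  have hY : P Y := P.prop_of_iso e hX
  have h0 : P (0 : A) := P.prop_of_isZero (isZero_zero A)
  have e1 := K0Res.clSub_add P (iso_shortExact (Iso.refl (0 : A))) h0 h0 h0
  have h := K0Res.clSub_add P (iso_shortExact e) hX hY h0
  rw [show KZero.clSub P (0 : A) = 0 from left_eq_add.mp e1, add_zero] at h
  exact h.symm

/-- Every class is a difference of two objects. -/
theorem exists_sub (x : KZero.K0sub P) : ∃ X Y : A, P X ∧ P Y ∧ x = KZero.clSub P X - KZero.clSub P Y := by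
  have h0 : P (0 : A) := P.prop_of_isZero (isZero_zero A)
  have hcl0 : KZero.clSub P (0 : A) = 0 :=
    left_eq_add.mp (K0Res.clSub_add P (iso_shortExact (Iso.refl (0 : A))) h0 h0 h0)
  have hadd : ∀ {X Y : A}, P X → P Y → P (X ⊞ Y) ∧ KZero.clSub P (X ⊞ Y) = KZero.clSub P X + KZero.clSub P Y :=
    fun {X Y} hX hY => by
      have h := P.prop_X₂_of_shortExact (split_shortExact X Y) hX hY
      exact ⟨h, K0Res.clSub_add P (split_shortExact X Y) hX h hY⟩
  induction x using QuotientAddGroup.induction_on with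
  | H z =>
    induction z using FreeAbelianGroup.induction_on with
    | zero => exact ⟨0, 0, h0, h0, by simp⟩
    | of X => exact ⟨X.1, 0, X.2, h0, by rw [hcl0, sub_zero, K0Res.clSub_eq P X.2]⟩
    | neg X _ => exact ⟨0, X.1, h0, X.2, by rw [hcl0, zero_sub, K0Res.clSub_eq P X.2]; rfl⟩
    | add a b ha hb =>
      obtain ⟨X, Y, hX, hY, ha⟩ := ha
      obtain ⟨X', Y', hX', hY', hb⟩ := hb
      refine ⟨X ⊞ X', Y ⊞ Y', (hadd hX hX').1, (hadd hY hY').1, ?_⟩
      rw [QuotientAddGroup.mk_add, ha, hb, (hadd hX hX').2, (hadd hY hY').2]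
      abel

/-- The inclusion in `K₀`. -/
def incl : KZero.K0sub P →+ KZero.K0 A :=
  QuotientAddGroup.lift _ (FreeAbelianGroup.lift fun X : Subtype P => KZero.cl X.1) (by
    rw [KZero.relSub, AddSubgroup.closure_le]
    rintro _ ⟨S, h₁, h₂, h₃, hS, rfl⟩
    simp only [SetLike.mem_coe, AddMonoidHom.mem_ker, map_sub, FreeAbelianGroup.lift_apply_of, cl_add hS]
    abel)

lemma incl_clSub {X : A} (h : P X) : incl P (KZero.clSub P X) = KZero.cl X := by
  rw [K0Res.clSub_eq P h]
  simp [incl]

/-- The homology of a complex in terms of cycles and kernels. -/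
lemma cl_homology (S : ShortComplex A) :
    KZero.cl S.homology = KZero.cl (kernel S.g) - KZero.cl S.X₁ + KZero.cl (kernel S.f) := by
  let f' : S.X₁ ⟶ kernel S.g := kernel.lift S.g S.f S.zero
  have h1 := cl_add (K0Res.kerSeq_shortExact (cokernel.π f'))
  have h2 := cl_add (K0Res.kerSeq_shortExact (Abelian.factorThruImage f'))
  have e : S.homology ≅ cokernel f' := (ShortComplex.LeftHomologyData.ofHasKernelOfHasCokernel S).homologyIso
  have hk : kernel f' ≅ kernel S.f := by
    have : f' ≫ kernel.ι S.g = S.f := kernel.lift_ι _ _ _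
    exact (kernelCompMono f' (kernel.ι S.g)).symm ≪≫ kernelIsoOfEq this
  have hk' : kernel (Abelian.factorThruImage f') ≅ kernel f' :=
    (kernelCompMono (Abelian.factorThruImage f') (Abelian.image.ι f')).symm ≪≫
      kernelIsoOfEq (Abelian.image.fac f')
  simp only [K0Res.kerSeq] at h1 h2
  rw [cl_iso (hk' ≪≫ hk)] at h2
  rw [cl_iso e, h1]
  change _ = _ - _ + _
  rw [h2]
  show _ = KZero.cl (Abelian.image f') + _ - _ + _
  abel

/-- The kernel of the inclusion. -/
theorem incl_eq_zero_iff (x : KZero.K0sub P) :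
    incl P x = 0 ↔ ∃ (M : A) (φ ψ : M ⟶ M) (h₁ : φ ≫ ψ = 0) (h₂ : ψ ≫ φ = 0),
      P (ShortComplex.mk φ ψ h₁).homology ∧ P (ShortComplex.mk ψ φ h₂).homology ∧
      x = KZero.clSub P (ShortComplex.mk φ ψ h₁).homology - KZero.clSub P (ShortComplex.mk ψ φ h₂).homology := by
  constructor
  · intro hx
    obtain ⟨X, Y, hX, hY, rfl⟩ := exists_sub P x
    rw [map_sub, incl_clSub P hX, incl_clSub P hY, sub_eq_zero] at hx
    obtain ⟨M, φ, ψ, h₁, h₂, ⟨eX⟩, ⟨eY⟩⟩ := exists_periodic hx
    exact ⟨M, φ, ψ, h₁, h₂, P.prop_of_iso eX.symm hX, P.prop_of_iso eY.symm hY,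
      by rw [clSub_iso P hX eX.symm, clSub_iso P hY eY.symm]⟩
  · rintro ⟨M, φ, ψ, h₁, h₂, hP, hQ, rfl⟩
    rw [map_sub, incl_clSub P hP, incl_clSub P hQ, cl_homology, cl_homology]
    abel

variable {Q : Type u'} [Category.{v'} Q] [Abelian Q] (L : A ⥤ Q) [L.IsLocalization P.isoModSerre] [L.Additive]
  [PreservesFiniteLimits L] [PreservesFiniteColimits L]

/-- The quotient map in `K₀`. -/
def quot : KZero.K0 A →+ KZero.K0 Q :=
  QuotientAddGroup.lift _ (FreeAbelianGroup.lift fun X : A => KZero.cl (L.obj X)) (by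
    rw [KZero.relAb, AddSubgroup.closure_le]
    rintro _ ⟨S, hS, rfl⟩
    have h : KZero.cl (L.obj S.X₂) = KZero.cl (L.obj S.X₁) + KZero.cl (L.obj S.X₃) :=
      cl_add (hS.map_of_exact L)
    simp only [SetLike.mem_coe, AddMonoidHom.mem_ker, map_sub, FreeAbelianGroup.lift_apply_of, h]
    abel)

lemma quot_cl (X : A) : quot L (KZero.cl X) = KZero.cl (L.obj X) := by
  simp [quot, KZero.cl]

/-- The class modulo the subcategory. -/
def clMod (X : A) : KZero.K0 A ⧸ (incl P).range := QuotientAddGroup.mk (KZero.cl X)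

lemma clMod_add {S : ShortComplex A} (hS : S.ShortExact) :
    clMod P S.X₂ = clMod P S.X₁ + clMod P S.X₃ := by
  rw [clMod, cl_add hS, QuotientAddGroup.mk_add]
  rfl

lemma clMod_eq_zero {X : A} (h : P X) : clMod P X = 0 :=
  (QuotientAddGroup.eq_zero_iff _).2 ⟨_, incl_clSub P h⟩

lemma clMod_of_isoModSerre {X Y : A} (f : X ⟶ Y) (hf : P.isoModSerre f) : clMod P X = clMod P Y := by
  have h1 := clMod_add P (K0Res.kerSeq_shortExact (Abelian.factorThruImage f))
  have h2 := clMod_add P (K0Res.kerSeq_shortExact (cokernel.π f))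
  have hk : kernel (Abelian.factorThruImage f) ≅ kernel f :=
    (kernelCompMono (Abelian.factorThruImage f) (Abelian.image.ι f)).symm ≪≫
      kernelIsoOfEq (Abelian.image.fac f)
  simp only [K0Res.kerSeq] at h1 h2
  rw [clMod_eq_zero P (P.prop_of_iso hk.symm hf.1), zero_add] at h1
  rw [clMod_eq_zero P hf.2, add_zero] at h2
  exact h1.trans h2.symm

lemma isoModSerre_of_isIso {X Y : A} (f : X ⟶ Y) [IsIso (L.map f)] : P.isoModSerre f :=
  ⟨(ObjectProperty.SerreClassLocalization.mono_map_iff L P f).1 inferInstance,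
    (ObjectProperty.SerreClassLocalization.epi_map_iff L P f).1 inferInstance⟩

lemma clMod_eq_of_iso {M N : A} (e : L.obj M ≅ L.obj N) : clMod P M = clMod P N := by
  obtain ⟨φ, hφ⟩ := Localization.exists_leftFraction L P.isoModSerre e.hom
  haveI : IsIso (L.map φ.s) := Localization.inverts L P.isoModSerre _ φ.hs
  haveI : IsIso (L.map φ.f) := by
    rw [← φ.map_comp_map_s L (Localization.inverts L P.isoModSerre), ← hφ]
    infer_instance
  rw [clMod_of_isoModSerre P φ.f (isoModSerre_of_isIso P L φ.f), clMod_of_isoModSerre P φ.s φ.hs]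

/-- The comparison back. -/
theorem exists_lift : ∃ g : KZero.K0 Q →+ KZero.K0 A ⧸ (incl P).range,
    ∀ X : A, g (KZero.cl (L.obj X)) = clMod P X := by
  haveI : L.EssSurj := Localization.essSurj L P.isoModSerre
  refine ⟨QuotientAddGroup.lift _ (FreeAbelianGroup.lift fun Z : Q => clMod P (L.objPreimage Z)) ?_, fun X => ?_⟩
  · rw [KZero.relAb, AddSubgroup.closure_le]
    rintro _ ⟨S, hS, rfl⟩
    haveI := hS.mono_f
    let e₁ := L.objObjPreimageIso S.X₁
    let e₂ := L.objObjPreimageIso S.X₂
    obtain ⟨φ, hφ⟩ := Localization.exists_leftFraction L P.isoModSerre (e₁.hom ≫ S.f ≫ e₂.inv)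
    haveI hs : IsIso (L.map φ.s) := Localization.inverts L P.isoModSerre _ φ.hs
    have hg : L.map φ.f = (e₁.hom ≫ S.f ≫ e₂.inv) ≫ L.map φ.s := by
      rw [hφ]; exact (φ.map_comp_map_s L (Localization.inverts L P.isoModSerre)).symm
    haveI : Mono (L.map φ.f) := by rw [hg]; infer_instance
    have hmono : P (kernel φ.f) := (ObjectProperty.SerreClassLocalization.mono_map_iff L P φ.f).1 inferInstance
    have h1 := clMod_add P (K0Res.kerSeq_shortExact (Abelian.factorThruImage φ.f))
    have h2 := clMod_add P (K0Res.kerSeq_shortExact (cokernel.π φ.f))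
    have hk : kernel (Abelian.factorThruImage φ.f) ≅ kernel φ.f :=
      (kernelCompMono (Abelian.factorThruImage φ.f) (Abelian.image.ι φ.f)).symm ≪≫
        kernelIsoOfEq (Abelian.image.fac φ.f)
    simp only [K0Res.kerSeq] at h1 h2
    rw [clMod_eq_zero P (P.prop_of_iso hk.symm hmono), zero_add] at h1
    have h1' : clMod P (kernel (cokernel.π φ.f)) = clMod P (L.objPreimage S.X₁) := h1.symm
    have h3 : clMod P (cokernel φ.f) = clMod P (L.objPreimage S.X₃) := by
      refine clMod_eq_of_iso P L (PreservesCokernel.iso L φ.f ≪≫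
        (cokernel.mapIso (f := S.f) (f' := L.map φ.f) e₁.symm (e₂.symm ≪≫ asIso (L.map φ.s)) ?_).symm ≪≫
          IsColimit.coconePointUniqueUpToIso (colimit.isColimit _) hS.gIsCokernel ≪≫
            (L.objObjPreimageIso S.X₃).symm)
      rw [hg]
      simp
    have h4 : clMod P (L.objPreimage S.X₂) = clMod P φ.Y' := clMod_of_isoModSerre P φ.s φ.hs
    simp only [SetLike.mem_coe, AddMonoidHom.mem_ker, map_sub, FreeAbelianGroup.lift_apply_of]
    rw [h4, h2, h1', h3]
    abel
  · rw [KZero.cl, QuotientAddGroup.lift_mk, FreeAbelianGroup.lift_apply_of]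
    exact clMod_eq_of_iso P L (L.objObjPreimageIso (L.obj X))

/-- Exactness. -/
theorem quot_exact : Function.Surjective (quot L) ∧ (quot L).ker = (incl P).range := by
  haveI : L.EssSurj := Localization.essSurj L P.isoModSerre
  refine ⟨fun y => ?_, le_antisymm (fun x hx => ?_) ?_⟩
  · induction y using QuotientAddGroup.induction_on with
    | H z =>
      induction z using FreeAbelianGroup.induction_on with
      | zero => exact ⟨0, map_zero _⟩
      | of Z => exact ⟨KZero.cl (L.objPreimage Z), by rw [quot_cl, cl_iso (L.objObjPreimageIso Z)]; rfl⟩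
      | neg Z h => obtain ⟨a, ha⟩ := h; exact ⟨-a, by rw [map_neg, ha]; rfl⟩
      | add a b ha hb =>
        obtain ⟨a', ha⟩ := ha
        obtain ⟨b', hb⟩ := hb
        exact ⟨a' + b', by rw [map_add, ha, hb]; rfl⟩
  · obtain ⟨g, hg⟩ := exists_lift P L
    have key : g.comp (quot L) = QuotientAddGroup.mk' _ := by
      refine QuotientAddGroup.addMonoidHom_ext _ (FreeAbelianGroup.lift_ext _ _ fun X => ?_)
      exact (congrArg g (quot_cl L X)).trans (hg X)
    have h := DFunLike.congr_fun key x
    rw [AddMonoidHom.comp_apply, AddMonoidHom.mem_ker.1 hx, map_zero] at h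
    exact (QuotientAddGroup.eq_zero_iff _).1 h.symm
  · rintro _ ⟨x, rfl⟩
    obtain ⟨X, Y, hX, hY, rfl⟩ := exists_sub P x
    have h : ∀ {Z : A}, P Z → KZero.cl (L.obj Z) = 0 := fun {Z} hZ =>
      (cl_iso ((ObjectProperty.SerreClassLocalization.isZero_obj_iff L P Z).2 hZ).isoZero).trans cl_zero
    rw [AddMonoidHom.mem_ker, map_sub, map_sub, incl_clSub P hX, incl_clSub P hY, quot_cl, quot_cl, h hX, h hY,
      sub_zero]

end Groth.Agent.K0Serre
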